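import Cfsg.Agent.FGS.Ord8.Defs
import Cfsg.Agent.FGS.Ord6B
import Cfsg.Agent.SOLV.FH.Cov
import Cfsg.Agent.KSG.AltPres

/-! The `A₆`-module `Ω₁Z(Q)` has a vector fixed by one of the two subgroups `S₄`. -/

set_option autoImplicit false
set_option linter.unusedSectionVars false

namespace CL.Ord8.B6a

open Subgroup Cfsg CL.MSS CL.Ord6 Equiv

variable {G : Type*} [Group G]

/-- `Ω₁Z(Q)` -/
def Yq (Q : Subgroup G) : Subgroup G where
  carrier := {v | v ∈ Q ∧ v * v = 1 ∧ ∀ q ∈ Q, v * q = q * v}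
  one_mem' := ⟨one_mem _, mul_one _, fun q _ => by simp⟩
  mul_mem' := fun {a b} ha hb => ⟨mul_mem ha.1 hb.1, by
      rw [mul_assoc, ← mul_assoc b, ← ha.2.2 b hb.1, mul_assoc, hb.2.1, mul_one, ha.2.1],
    fun q hq => by rw [mul_assoc, hb.2.2 q hq, ← mul_assoc, ha.2.2 q hq, mul_assoc]⟩
  inv_mem' := fun {a} ha => by rw [inv_of_sq ha.2.1]; exact ha

theorem Yq_comm {Q : Subgroup G} {a b : G} (ha : a ∈ Yq Q) (hb : b ∈ Yq Q) : a * b = b * a := ha.2.2 b hb.1

theorem Yq_conj {Q : Subgroup G} {a g : G} (hg : g ∈ 𝐍 Q) (ha : a ∈ Yq Q) : g * a * g⁻¹ ∈ Yq Q := by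
  refine ⟨(mem_normalizer_iff.1 hg a).1 ha.1, by
    rw [show g * a * g⁻¹ * (g * a * g⁻¹) = g * (a * a) * g⁻¹ by group, ha.2.1]; simp, fun q hq => ?_⟩
  have := ha.2.2 _ ((mem_normalizer_iff.1 (inv_mem hg) q).1 hq)
  rw [inv_inv] at this
  calc g * a * g⁻¹ * q = g * (a * (g⁻¹ * q * g)) * g⁻¹ := by group
    _ = q * (g * a * g⁻¹) := by rw [this]; group

/-- a product in which every factor occurs an even number of times -/
theorem par {Q : Subgroup G} {ι : Type*} [DecidableEq ι] (w : ι → G) (hw : ∀ i, w i ∈ Yq Q) (L : List ι)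
    (h : ∀ i ∈ L, L.count i % 2 = 0) : (L.map w).prod = 1 := by
  let _ : CommGroup (Yq Q) := { (inferInstance : Group (Yq Q)) with
    mul_comm := fun a b => Subtype.ext (Yq_comm a.2 b.2) }
  have e : (L.map fun i => (⟨w i, hw i⟩ : Yq Q)).prod = 1 := by
    rw [Finset.prod_list_map_count]
    refine Finset.prod_eq_one fun i hi => ?_
    obtain ⟨k, hk⟩ := Nat.dvd_of_mod_eq_zero (h i (List.mem_toFinset.1 hi))
    rw [hk, pow_mul, pow_two, show (⟨w i, hw i⟩ : Yq Q) * ⟨w i, hw i⟩ = 1 from Subtype.ext (hw i).2.1, one_pow]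
  have := congrArg (Yq Q).subtype e
  rwa [map_list_prod, List.map_map, map_one] at this

variable {M Q : Subgroup G} {Γ : Type*} [Group Γ] {π : M →* Γ}

/-- the conjugates of `z` are indexed by the conjugates of `t` -/
theorem exW (t : Γ) (z : G) (hz : ∀ m : M, π m * t = t * π m → m.1 * z = z * m.1) :
    ∃ W : Γ → G, W t = z ∧ (∀ (m : M) u, m.1 * W u * m.1⁻¹ = W (π m * u * (π m)⁻¹)) ∧
      ∀ u, W u = 1 ∨ ∃ m : M, u = π m * t * (π m)⁻¹ ∧ W u = m.1 * z * m.1⁻¹ := by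
  classical
  let W : Γ → G := fun u => if h : ∃ m : M, u = π m * t * (π m)⁻¹ then h.choose.1 * z * h.choose.1⁻¹ else 1
  have k : ∀ m : M, W (π m * t * (π m)⁻¹) = m.1 * z * m.1⁻¹ := fun m => by
    have h : ∃ m' : M, π m * t * (π m)⁻¹ = π m' * t * (π m')⁻¹ := ⟨m, rfl⟩
    have e := hz (m⁻¹ * h.choose) (by
      rw [map_mul, map_inv]
      calc (π m)⁻¹ * π h.choose * t = (π m)⁻¹ * (π h.choose * t * (π h.choose)⁻¹) * π h.choose := by group
        _ = t * ((π m)⁻¹ * π h.choose) := by rw [← h.choose_spec]; group)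
    rw [show W _ = _ from dif_pos h]
    calc h.choose.1 * z * h.choose.1⁻¹ = m.1 * ((m⁻¹ * h.choose).1 * z) * h.choose.1⁻¹ := by simp [mul_assoc]
      _ = _ := by rw [e]; simp [mul_assoc]
  refine ⟨W, by simpa using k 1, fun m u => ?_, fun u => ?_⟩
  · by_cases h : ∃ m : M, u = π m * t * (π m)⁻¹
    · obtain ⟨n, rfl⟩ := h
      rw [show π m * (π n * t * (π n)⁻¹) * (π m)⁻¹ = π (m * n) * t * (π (m * n))⁻¹ by rw [map_mul]; group, k, k]
      simp [mul_assoc]
    · rw [show W u = 1 from dif_neg h, show W _ = 1 from dif_neg fun ⟨n, e⟩ => h ⟨m⁻¹ * n, by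
        rw [map_mul, map_inv]
        calc u = (π m)⁻¹ * (π m * u * (π m)⁻¹) * π m := by group
          _ = _ := by rw [e]; group⟩]
      simp
  · by_cases h : ∃ m : M, u = π m * t * (π m)⁻¹
    · obtain ⟨n, rfl⟩ := h
      exact .inr ⟨n, rfl, k n⟩
    · exact .inl (dif_neg h)

theorem memW (l : Loc M Q π) {t : Γ} {z : G} (hz : z ∈ Yq Q) {W : Γ → G}
    (h : ∀ u, W u = 1 ∨ ∃ m : M, u = π m * t * (π m)⁻¹ ∧ W u = m.1 * z * m.1⁻¹) (u : Γ) : W u ∈ Yq Q := by
  rcases h u with e | ⟨m, -, e⟩ <;> rw [e]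
  exacts [one_mem _, Yq_conj (l.nQ ▸ m.2) hz]

/-- conjugation -/
def cj (f u : Γ) : Γ := f * u * f⁻¹

/-- the orbit of `u` under an element of order five -/
def orb (f u : Γ) : List Γ := [u, cj f u, cj f (cj f u), cj f (cj f (cj f u)), cj f (cj f (cj f (cj f u)))]

theorem conj_prod {W : Γ → G} (c : ∀ (m : M) u, m.1 * W u * m.1⁻¹ = W (π m * u * (π m)⁻¹)) (m : M) (L : List Γ) :
    m.1 * (L.map W).prod * m.1⁻¹ = ((L.map (cj (π m))).map W).prod := by
  induction L with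
  | nil => simp
  | cons a L ih =>
    rw [List.map_cons, List.map_cons, List.map_cons, List.prod_cons, List.prod_cons, ← ih, cj, ← c]
    group

theorem prod_perm {ι : Type*} {w : ι → G} (hw : ∀ i, w i ∈ Yq Q) {L L' : List ι} (h : L.Perm L') :
    (L.map w).prod = (L'.map w).prod :=
  (h.map w).prod_eq' (List.pairwise_map.2 (List.pairwise_of_forall fun a b => Yq_comm (hw a) (hw b)))

theorem prod_mem {ι : Type*} {w : ι → G} (hw : ∀ i, w i ∈ Yq Q) (L : List ι) : (L.map w).prod ∈ Yq Q :=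
  list_prod_mem fun x hx => by
    obtain ⟨i, -, rfl⟩ := List.mem_map.1 hx
    exact hw i

variable [Finite G]

/-- `N(f) = 0` -/
theorem rel5 (h : H8 G) (l : Loc M Q π) {W : Γ → G} (hw : ∀ u, W u ∈ Yq Q)
    (c : ∀ (m : M) u, m.1 * W u * m.1⁻¹ = W (π m * u * (π m)⁻¹)) {f : Γ} (hf : f ∈ π.range) (f5 : f ^ 5 = 1)
    (f1 : f ≠ 1) (u : Γ) : ((orb f u).map W).prod = 1 := by
  obtain ⟨m, rfl⟩ := hf
  have := Fact.mk (show Nat.Prime 5 by norm_num)
  have m5 : m ^ 5 = 1 := (h.subgroup M).lift π (orderOf_eq_prime f5 f1) le_rfl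
  refine h.fpf2 (f := m.1) (.inl rfl) (congrArg Subtype.val m5) (fun e => f1 (by
    rw [show m = 1 from Subtype.ext e, map_one])) l.pQ (prod_mem hw _).1 ?_
  rw [← mul_inv_eq_iff_eq_mul, conj_prod c]
  refine prod_perm hw ?_
  have e : cj (π m) (cj (π m) (cj (π m) (cj (π m) (cj (π m) u)))) = u := by
    calc _ = π m ^ 5 * u * (π m ^ 5)⁻¹ := by simp only [cj, pow_succ, pow_zero]; group
      _ = u := by rw [f5]; simp
  simp only [orb, List.map_cons, List.map_nil, e]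
  exact List.perm_append_comm (l₁ := [_, _, _, _]) (l₂ := [u])

theorem exists_theta : ∃ θ : Sy 6 ≃* Sy 6, θ (swap 0 1 * swap 2 3 * swap 4 5) = swap 4 5 := by
  obtain ⟨θ, h1, h2⟩ := CL.AltPres.exists_perm_hom_of_carmichael 4
    (swap 0 1 * (swap 2 3 * swap 4 5) : Perm (Fin 6))
    (fun i => ![swap 0 2 * swap 1 4 * swap 3 5, swap 0 3 * swap 1 5 * swap 2 4,
      swap 0 4 * swap 1 3 * swap 2 5, swap 0 5 * swap 1 2 * swap 3 4] i *
      (swap 0 1 * (swap 2 3 * swap 4 5))) (by decide +kernel) (by decide +kernel)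
    (by decide +kernel) (by decide +kernel)
  have inj : Function.Injective θ := by
    refine (MonoidHom.ker_eq_bot_iff θ).1 (by_contra fun hne => ?_)
    have := Perm.alternatingGroup_le_of_normal (α := Fin 6) (by simp) (N := θ.ker)
      ((Subgroup.nontrivial_iff_ne_bot _).2 hne)
      (show swap 0 (Fin.succ (Fin.succ (0 : Fin 4))) * swap 0 1 ∈ alternatingGroup (Fin 6) by
        rw [Perm.mem_alternatingGroup]; decide)
    rw [MonoidHom.mem_ker, map_mul, h1, h2] at this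
    revert this; decide +kernel
  let e := MulEquiv.ofBijective θ (Finite.injective_iff_bijective.1 inj)
  refine ⟨e.symm.trans (MulAut.conj (swap 0 4 * swap 1 5)), ?_⟩
  rw [MulEquiv.trans_apply, show e.symm _ = swap 0 1 from e.symm_apply_eq.2 ((mul_assoc _ _ _).trans h1.symm)]
  decide +kernel

/-- the pentagon relations of the certificate -/
def cert : List (Sy 6 × Sy 6) :=
  [(swap 0 5 * swap 0 2 * swap 0 4 * swap 0 1, swap 1 3 * swap 2 5),
   (swap 0 2 * swap 0 3 * swap 0 4 * swap 0 1, swap 1 3 * swap 2 4),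
   (swap 0 5 * swap 0 3 * swap 0 2 * swap 0 1, swap 1 3 * swap 2 5),
   (swap 0 5 * swap 0 3 * swap 0 4 * swap 0 1, swap 2 3 * swap 4 5),
   (swap 0 4 * swap 0 3 * swap 0 5 * swap 0 1, swap 1 4 * swap 3 5)]

theorem cert_ok : ∀ p ∈ cert, p.1 ^ 5 = 1 ∧ p.1 ≠ 1 := by
  simp only [cert, List.forall_mem_cons, List.not_mem_nil, false_imp_iff, implies_true, and_true]
  refine ⟨⟨?_, ?_⟩, ⟨?_, ?_⟩, ⟨?_, ?_⟩, ⟨?_, ?_⟩, ?_, ?_⟩ <;> decide +kernel

/-- the flags through the point `45` -/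
def L1 : List (Sy 6) := [swap 0 1 * swap 2 3, swap 0 2 * swap 1 3, swap 0 3 * swap 1 2]

/-- the flags on the line `01 | 23 | 45` -/
def L2 : List (Sy 6) := [swap 0 1 * swap 2 3, swap 0 1 * swap 4 5, swap 2 3 * swap 4 5]

theorem exz (h : H8 G) {π : M →* Sy 6} (l : Loc M Q π) (r : π.range = alternatingGroup (Fin 6)) :
    ∃ π' : M →* Sy 6, Loc M Q π' ∧ π'.range = alternatingGroup (Fin 6) ∧ ∃ z ∈ Q, z ≠ 1 ∧ z * z = 1 ∧
      (∀ q ∈ Q, z * q = q * z) ∧ ∀ m : M, π' m * swap 4 5 = swap 4 5 * π' m → m.1 * z = z * m.1 := by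
  have := Fact.mk Nat.prime_two
  let t : Sy 6 := swap 0 1 * swap 2 3
  let T : Subgroup G := ((𝐜 t).comap π).map M.subtype
  have pT : IsPGroup 2 T := isPGroup_iff_forall_mem.2 (by
    rintro _ ⟨m, hm, rfl⟩
    have e : (m ^ 4).1 ∈ Q := (l.ker _).1 (by
      rw [map_pow]
      exact (by decide +kernel : ∀ σ : Sy 6, σ * t = t * σ → σ ^ 4 = 1) _ (mem_c.1 hm))
    exact ⟨5, by rw [show 2 ^ 5 = 4 * 8 from rfl, pow_mul]; exact h.p8 l.pQ e⟩)
  obtain ⟨⟨z, zQ, zT⟩, hz⟩ := exists_prime_orderOf_dvd_card' 2 (FroA.exists_pfix pT (K := Q)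
    ((map_subtype_le _).trans l.nQ.ge) (dvd_card_of_isPGroup_le l.pQ l.ne le_rfl))
  replace hz : orderOf z = 2 := (orderOf_coe _).trans hz
  have zt : ∀ m : M, π m * t = t * π m → m.1 * z = z * m.1 := fun m hm => zT _ ⟨m, mem_c.2 hm, rfl⟩
  have zY : z ∈ Yq Q := ⟨zQ, by rw [← pow_two, ← hz]; exact pow_orderOf_eq_one _, fun q hq =>
    (zt ⟨q, l.nQ ▸ le_normalizer hq⟩ (by rw [(l.ker _).2 hq]; simp)).symm⟩
  obtain ⟨W, w1, c, w3⟩ := exW t z zt
  have hw := memW l zY w3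
  have fin : ∀ (L : List (Sy 6)) (s : Sy 6), (∀ σ : Sy 6, σ * s = s * σ → (L.map (cj σ)).Perm L) →
      ∀ m : M, π m * s = s * π m → m.1 * (L.map W).prod = (L.map W).prod * m.1 := fun L s k m hm => by
    rw [← mul_inv_eq_iff_eq_mul, conj_prod c]
    exact prod_perm hw (k _ hm)
  by_cases e1 : (L1.map W).prod = 1
  · by_cases e2 : (L2.map W).prod = 1
    · have e3 : ∀ C : List (Sy 6 × Sy 6), (∀ p ∈ C, p.1 ^ 5 = 1 ∧ p.1 ≠ 1) →
          ((C.flatMap fun p => orb p.1 p.2).map W).prod = 1 := fun C k => by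
        induction C with
        | nil => simp
        | cons a C ih =>
          have ka := k a List.mem_cons_self
          rw [List.flatMap_cons, List.map_append, List.prod_append, ih fun p hp => k p (List.mem_cons_of_mem _ hp),
            rel5 h l hw c (r ▸ sign_of_odd (by decide) ka.1) ka.1 ka.2, one_mul]
      have k := par W hw (t :: (L1 ++ (L2 ++ cert.flatMap fun p => orb p.1 p.2))) (by decide +kernel)
      rw [List.map_cons, List.prod_cons, List.map_append, List.prod_append, List.map_append, List.prod_append,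
        e1, e2, e3 cert cert_ok, w1, mul_one, mul_one, mul_one] at k
      rw [k, orderOf_one] at hz
      exact absurd hz (by decide)
    · obtain ⟨θ, hθ⟩ := exists_theta
      have y := prod_mem hw L2
      refine ⟨θ.toMonoidHom.comp π, ⟨l.pQ, l.ne, l.nQ, l.cQ, fun m => ?_, l.max⟩, ?_, _, y.1, e2, y.2.1, y.2.2,
        fun m hm => fin L2 (swap 0 1 * swap 2 3 * swap 4 5) (by decide +kernel) m (θ.injective ?_)⟩
      · exact (θ.map_eq_one_iff).trans (l.ker m)
      · rw [← MonoidHom.map_range, r]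
        exact (Perm.eq_alternatingGroup_of_index_eq_two (by
          rw [index_map_of_bijective θ.bijective, alternatingGroup.index_eq_two]))
      · rw [map_mul θ (π m), map_mul θ _ (π m), hθ]
        exact hm
  · have y := prod_mem hw L1
    exact ⟨π, l, r, _, y.1, e1, y.2.1, y.2.2, fin L1 _ (by decide +kernel)⟩

end CL.Ord8.B6a
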