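import Cfsg.Agent.FGS.Ord8.Defs
import Cfsg.Agent.REC.Basic

/-!
Modules of exponent two for `L₃(2)` on which the elements of order seven have no fixed points contain a natural module
or its dual.
-/

set_option autoImplicit false

namespace CL.Ord8.B7

open Matrix Subgroup CL.MSS

abbrev Vec := Fin 3 → ZMod 2

/-- the action on vectors -/
def ac (a : L32) (v : Vec) : Vec := a.1 *ᵥ v

theorem ac_mul (a b : L32) (v : Vec) : ac (a * b) v = ac a (ac b v) := by simp [ac]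

theorem ac_one (v : Vec) : ac 1 v = v := by simp [ac]

theorem ac_add (a : L32) (v w : Vec) : ac a (v + w) = ac a v + ac a w := by simp [ac, mulVec_add]

theorem ac_zero (a : L32) : ac a 0 = 0 := by simp [ac]

theorem ac_inv (a : L32) (v : Vec) : ac a⁻¹ (ac a v) = v := by rw [← ac_mul, inv_mul_cancel, ac_one]

theorem ac_inv' (a : L32) (v : Vec) : ac a (ac a⁻¹ v) = v := by rw [← ac_mul, mul_inv_cancel, ac_one]

/-- the action as a permutation -/
def acE (a : L32) : Vec ≃ Vec := ⟨ac a, ac a⁻¹, ac_inv a, ac_inv' a⟩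

theorem ac_ne (a : L32) {v : Vec} (h : v ≠ 0) : ac a v ≠ 0 := fun e => h (by rw [← ac_inv a v, e, ac_zero])

theorem ac_ext {a : L32} (h : ∀ v, ac a v = v) : a = 1 := by
  refine Subtype.ext (Matrix.ext fun i j => ?_)
  have := congrFun (h (Pi.single j 1)) i
  simp only [ac, mulVec_single_one, col_apply] at this
  exact this.trans ((Pi.single_apply j 1 i).trans (one_apply (α := ZMod 2)).symm)

theorem tr_mul (a b : L32) : (a * b).transpose = b.transpose * a.transpose :=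
  Subtype.ext (transpose_mul _ _)

theorem tr_one : (1 : L32).transpose = 1 := Subtype.ext transpose_one

theorem tr_inv (a : L32) : (a⁻¹).transpose = (a.transpose)⁻¹ :=
  eq_inv_of_mul_eq_one_left (by rw [← tr_mul, mul_inv_cancel, tr_one])

/-- the inverse transpose -/
def σ : L32 →* L32 where
  toFun a := (a⁻¹).transpose
  map_one' := by rw [inv_one, tr_one]
  map_mul' a b := by rw [_root_.mul_inv_rev, tr_mul]

theorem σσ (a : L32) : σ (σ a) = a := by
  show (((a⁻¹).transpose)⁻¹).transpose = a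
  rw [← tr_inv, inv_inv]; rfl

theorem σ_bij : Function.Bijective σ := Function.Involutive.bijective σσ

theorem σ_eq {a b : L32} (h : a * b = 1) : σ a = b.transpose := by
  rw [← inv_eq_of_mul_eq_one_right h]; rfl

theorem pair (a : L32) (l v : Vec) : ac (σ a) l ⬝ᵥ ac a v = l ⬝ᵥ v := by
  show ((a⁻¹).1)ᵀ *ᵥ l ⬝ᵥ ac a v = _
  rw [mulVec_transpose, ← dotProduct_mulVec]
  exact congrArg _ (ac_inv a v)

def e0 : Vec := ![1, 0, 0]
def e1 : Vec := ![0, 1, 0]
def e2 : Vec := ![0, 0, 1]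

theorem dot2 (v : Vec) : e2 ⬝ᵥ v = v 2 := by simp [e2, dotProduct, Fin.sum_univ_three]

/-- a matrix of determinant one -/
def mk (a b c d e f g h i : ZMod 2)
    (k : a * e * i - a * f * h - b * d * i + b * f * g + c * d * h - c * e * g = 1 := by decide) : L32 :=
  ⟨!![a, b, c; d, e, f; g, h, i], by rw [det_fin_three]; simpa using k⟩

def g1 : L32 := mk 0 0 1 0 1 1 1 1 0
def k1 : L32 := mk 1 1 1 1 1 0 1 0 0
def g2 : L32 := mk 0 0 1 0 1 1 1 1 1
def k2 : L32 := mk 0 1 1 1 1 0 1 0 0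
def g3 : L32 := mk 0 0 1 1 0 0 1 1 0
def k3 : L32 := mk 0 1 0 0 1 1 1 0 0
def x1 : L32 := mk 1 0 0 0 1 1 0 1 0
def f0 : L32 := mk 0 1 0 0 0 1 1 1 0

theorem p7 {a : L32} (h : a * a * a * (a * a) * (a * a) = 1) : a ^ 7 = 1 := by
  rw [← h]; simp only [pow_succ, pow_zero, one_mul, mul_assoc]

theorem g1_7 : g1 ^ 7 = 1 ∧ g1 ≠ 1 ∧ g1 * k1 = 1 := ⟨p7 (by decide +kernel), by decide +kernel, by decide +kernel⟩
theorem g2_7 : g2 ^ 7 = 1 ∧ g2 ≠ 1 ∧ g2 * k2 = 1 := ⟨p7 (by decide +kernel), by decide +kernel, by decide +kernel⟩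
theorem g3_7 : g3 ^ 7 = 1 ∧ g3 ≠ 1 ∧ g3 * k3 = 1 := ⟨p7 (by decide +kernel), by decide +kernel, by decide +kernel⟩
theorem f0_7 : f0 ^ 7 = 1 ∧ f0 ≠ 1 ∧ x1 * f0 = f0 * f0 * x1 :=
  ⟨p7 (by decide +kernel), by decide +kernel, by decide +kernel⟩
theorem x1_3 : x1 ^ 3 = 1 ∧ x1 ≠ 1 ∧ ac x1 e0 = e0 :=
  ⟨by rw [pow_three']; decide +kernel, by decide +kernel, by decide +kernel⟩

section Mod

variable {W : Type*} [CommGroup W]

/-- elements of order seven have no fixed points -/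
def FP (ρ : L32 →* MulAut W) : Prop := ∀ f : L32, f ^ 7 = 1 → f ≠ 1 → ∀ w, ρ f w = w → w = 1

/-- a natural submodule -/
def NatM (ρ : L32 →* MulAut W) : Prop := ∃ U : Vec → W, (∃ v, U v ≠ 1) ∧ (∀ a v, ρ a (U v) = U (ac a v)) ∧
  ∀ v w, U (v + w) = U v * U w

theorem FP.dual {ρ : L32 →* MulAut W} (h : FP ρ) : FP (ρ.comp σ) := fun f f7 f1 =>
  h (σ f) (by rw [← map_pow, f7, map_one]) fun e => f1 (by rw [← σσ f, e, map_one])

theorem par (h2 : ∀ w : W, w * w = 1) {X : Type*} [Fintype X] (Φ : X → W) (e : X → ℕ)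
    (h : ∀ x, Φ x = 1 ∨ e x % 2 = 0) : ∏ x, Φ x ^ e x = 1 := by
  refine Finset.prod_eq_one fun x _ => (h x).elim (fun c => by rw [c, one_pow]) fun c => ?_
  obtain ⟨k, hk⟩ := Nat.dvd_of_mod_eq_zero c
  rw [hk, pow_mul, pow_two, h2, one_pow]

theorem orb {ρ : L32 →* MulAut W} (hf : FP ρ) {X : Type*} [Fintype X] (Φ : X → W) {g : L32} (g7 : g ^ 7 = 1)
    (g1 : g ≠ 1) (s : X ≃ X) (hΦ : ∀ x, ρ g (Φ x) = Φ (s x)) (e : X → ℕ) (he : ∀ x, e (s x) = e x) :
    ∏ x, Φ x ^ e x = 1 := by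
  refine hf g g7 g1 _ ?_
  simp only [map_prod, map_pow, hΦ]
  exact Fintype.prod_equiv s _ _ fun x => by rw [he]

theorem tri (h2 : ∀ w : W, w * w = 1) {a b c : W} (h : a * b * c = 1) : a = b * c := by
  rw [← mul_one a, ← h2 (b * c), ← mul_assoc, ← mul_assoc a, h, one_mul]

theorem lin : ∀ v w : Vec, ∃ l : Vec, ∃ c : Fin 2, ∀ u : Vec, u = 0 ∨ ((if u = v + w then 1 else 0) +
    (if u = v then 1 else 0) + (if u = w then 1 else 0) + c.1 + (l ⬝ᵥ u).val) % 2 = 0 := by decide +kernel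

theorem b1 {ρ : L32 →* MulAut W} (h2 : ∀ w : W, w * w = 1) (hf : FP ρ) (U : Vec → W) (U0 : U 0 = 1)
    (hne : ∃ v, U v ≠ 1) (hU : ∀ a v, ρ a (U v) = U (ac a v)) : NatM ρ ∨ NatM (ρ.comp σ) := by
  by_cases c : ∃ l : Vec, ∏ u, U u ^ (l ⬝ᵥ u).val ≠ 1
  · refine .inr ⟨fun l => ∏ u, U u ^ (l ⬝ᵥ u).val, c, fun a l => ?_, fun l m => tri h2 ?_⟩
    · simp only [MonoidHom.comp_apply, map_prod, map_pow, hU]
      refine Fintype.prod_equiv (acE (σ a)) _ _ fun u => ?_
      have := pair (σ a) l u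
      rw [σσ] at this
      exact congrArg (fun t : ZMod 2 => U (ac (σ a) u) ^ t.val) this.symm
    · simp only [← Finset.prod_mul_distrib, ← pow_add, add_dotProduct]
      exact par h2 _ _ fun u => .inr ((by decide : ∀ x y : ZMod 2, ((x + y).val + x.val + y.val) % 2 = 0) _ _)
  · push Not at c
    refine .inl ⟨U, hne, hU, fun v w => tri h2 ?_⟩
    obtain ⟨l, k, hk⟩ := lin v w
    have := par h2 U _ fun u => (hk u).imp_left fun e => by rw [e, U0]
    simp only [pow_add, Finset.prod_mul_distrib, c, orb hf U f0_7.1 f0_7.2.1 (acE f0) (hU f0) (fun _ => k.1)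
      fun _ => rfl, pow_ite, pow_one, pow_zero, Finset.prod_ite_eq', Finset.mem_univ, if_true, mul_one] at this
    exact this

/-- the number of a vector -/
def cd (v : Vec) : ℕ := (v 0).val + 2 * (v 1).val + 4 * (v 2).val

/-- the indicator function of a set of pairs of vectors -/
def bt (m : ℕ) (x : Vec × Vec) : ℕ := m / 2 ^ (cd x.1 + 8 * cd x.2) % 2

theorem cert : ∀ x : Vec × Vec, x.1 ≠ 0 → x.2 ≠ 0 → x.2 ⬝ᵥ x.1 = 0 → ((if x = (e0, e2) then 1 else 0) +
    12 / 2 ^ cd x.1 % 2 + 68 / 2 ^ cd x.2 % 2 + bt 2306546713970622464 x + bt 5224778128176467968 x +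
    bt 6936282351786923008 x) % 2 = 0 := by decide +kernel

theorem in1 : ∀ x : Vec × Vec, bt 2306546713970622464 (ac g1 x.1, ac k1.transpose x.2) =
    bt 2306546713970622464 x := by decide +kernel
theorem in2 : ∀ x : Vec × Vec, bt 5224778128176467968 (ac g2 x.1, ac k2.transpose x.2) =
    bt 5224778128176467968 x := by decide +kernel
theorem in3 : ∀ x : Vec × Vec, bt 6936282351786923008 (ac g3 x.1, ac k3.transpose x.2) =
    bt 6936282351786923008 x := by decide +kernel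

theorem b2 {ρ : L32 →* MulAut W} (h2 : ∀ w : W, w * w = 1) (hf : FP ρ) {z : W} (z1 : z ≠ 1)
    (hz : ∀ a, ac a e0 = e0 → ac (σ a) e2 = e2 → ρ a z = z) : NatM ρ ∨ NatM (ρ.comp σ) := by
  classical
  let P : Vec × Vec → Prop := fun x => ∃ a, ac a e0 = x.1 ∧ ac (σ a) e2 = x.2
  let Φ : Vec × Vec → W := fun x => if h : P x then ρ h.choose z else 1
  have h1 : ∀ a, Φ (ac a e0, ac (σ a) e2) = ρ a z := fun a => by
    have p : P (ac a e0, ac (σ a) e2) := ⟨a, rfl, rfl⟩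
    have := hz (a⁻¹ * p.choose) (by rw [ac_mul, p.choose_spec.1, ac_inv])
      (by rw [map_mul, ac_mul, p.choose_spec.2, map_inv, ac_inv])
    simp only [Φ, dif_pos p]
    conv_rhs => rw [← this, ← MulAut.mul_apply, ← map_mul, mul_inv_cancel_left]
  have h0 : ∀ x, ¬ P x → Φ x = 1 := fun x c => dif_neg c
  have hΦ : ∀ a x, ρ a (Φ x) = Φ (ac a x.1, ac (σ a) x.2) := fun a x => by
    by_cases c : P x
    · obtain ⟨b, b1, b2⟩ := c
      have : x = (ac b e0, ac (σ b) e2) := Prod.ext b1.symm b2.symm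
      rw [this, h1, ← ac_mul, ← ac_mul, ← map_mul, h1, map_mul, MulAut.mul_apply]
    · rw [h0 x c, map_one, h0]
      rintro ⟨b, b1, b2⟩
      exact c ⟨a⁻¹ * b, by rw [ac_mul, b1, ac_inv], by rw [map_mul, ac_mul, b2, map_inv, ac_inv]⟩
  have fl : ∀ x, P x → x.1 ≠ 0 ∧ x.2 ≠ 0 ∧ x.2 ⬝ᵥ x.1 = 0 := fun x ⟨b, b1, b2⟩ => by
    rw [← b1, ← b2, pair]
    exact ⟨ac_ne _ (by decide), ac_ne _ (by decide), by decide⟩
  by_cases c1 : ∃ v, ∏ l, Φ (v, l) ≠ 1
  · refine b1 h2 hf _ (Finset.prod_eq_one fun l _ => h0 _ fun p => (fl _ p).1 rfl) c1 fun a v => ?_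
    simp only [map_prod, hΦ]
    exact Fintype.prod_equiv (acE (σ a)) _ _ fun _ => rfl
  by_cases c2 : ∃ l, ∏ v, Φ (v, l) ≠ 1
  · have := b1 h2 hf.dual _ (Finset.prod_eq_one fun l _ => h0 _ fun p => (fl _ p).2.1 rfl) c2 fun a v => by
      simp only [MonoidHom.comp_apply, map_prod, hΦ, σσ]
      exact Fintype.prod_equiv (acE (σ a)) _ _ fun _ => rfl
    rw [show (ρ.comp σ).comp σ = ρ from MonoidHom.ext fun a => congrArg ρ (σσ a)] at this
    exact this.symm
  push Not at c1 c2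
  have o : ∀ {g k : L32}, g ^ 7 = 1 ∧ g ≠ 1 ∧ g * k = 1 → ∀ m,
      (∀ x : Vec × Vec, bt m (ac g x.1, ac k.transpose x.2) = bt m x) → ∏ x, Φ x ^ bt m x = 1 :=
    fun {g k} p m q => orb hf Φ p.1 p.2.1 ((acE g).prodCongr (acE (σ g))) (hΦ g) _ fun x => by
      rw [← σ_eq p.2.2] at q; exact q x
  have r1 : ∀ e : Vec → ℕ, ∏ x, Φ x ^ e x.1 = 1 := fun e => by
    rw [Fintype.prod_prod_type]
    exact Finset.prod_eq_one fun v _ => by simp only [Finset.prod_pow, c1, one_pow]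
  have r2 : ∀ e : Vec → ℕ, ∏ x, Φ x ^ e x.2 = 1 := fun e => by
    rw [Fintype.prod_prod_type_right]
    exact Finset.prod_eq_one fun v _ => by simp only [Finset.prod_pow, c2, one_pow]
  have := par h2 Φ _ fun x => (em (P x)).symm.imp (h0 x) fun p => cert x (fl x p).1 (fl x p).2.1 (fl x p).2.2
  simp only [pow_add, Finset.prod_mul_distrib, o g1_7 _ in1, o g2_7 _ in2, o g3_7 _ in3,
    r1 fun v => 12 / 2 ^ cd v % 2, r2 fun v => 68 / 2 ^ cd v % 2, pow_ite, pow_one, pow_zero, Finset.prod_ite_eq',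
    Finset.mem_univ, if_true, mul_one] at this
  have e := h1 1
  rw [map_one, ac_one, ac_one, this, map_one] at e
  exact (z1 e.symm).elim

end Mod

/-- the upper unitriangular matrices -/
def D : Subgroup L32 where
  carrier := {a | ac a e0 = e0 ∧ ∀ v, ac a v 2 = v 2}
  mul_mem' := fun {a b} p q => ⟨by rw [ac_mul, q.1, p.1], fun v => by rw [ac_mul, p.2, q.2]⟩
  one_mem' := ⟨ac_one _, fun v => by rw [ac_one]⟩
  inv_mem' := fun {a} p => ⟨by rw [← p.1, ac_inv, p.1], fun v => by rw [← p.2 (ac a⁻¹ v), ac_inv']⟩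

/-- the transvections with centre `e0` -/
def E : Subgroup L32 where
  carrier := {a | ∀ v, ac a v 1 = v 1 ∧ ac a v 2 = v 2}
  mul_mem' := fun {a b} p q v => by rw [ac_mul, (p _).1, (p _).2]; exact q v
  one_mem' := fun v => by rw [ac_one]; exact ⟨rfl, rfl⟩
  inv_mem' := fun {a} p v => by
    have := p (ac a⁻¹ v)
    rw [ac_inv'] at this
    exact ⟨this.1.symm, this.2.symm⟩

theorem alt : ∀ u v : Vec, (u 1 = v 1 ∧ u 2 = v 2) ↔ (u = v ∨ u = v + e0) := by decide +kernel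

theorem mem_E {a : L32} : a ∈ E ↔ ∀ v, ac a v = v ∨ ac a v = v + e0 := forall_congr' fun _ => alt _ _

theorem E_le : E ≤ D := fun a p => ⟨((mem_E.1 p e0).resolve_right fun c => ac_ne a (v := e0) (by decide)
  (c.trans (by decide))), fun v => (p v).2⟩

theorem E_cj {s a : L32} (hs : ac s e0 = e0) (p : a ∈ E) : s * a * s⁻¹ ∈ E := mem_E.2 fun v => by
  rw [ac_mul, ac_mul]
  rcases mem_E.1 p (ac s⁻¹ v) with e | e
  · exact .inl (by rw [e, ac_inv'])
  · exact .inr (by rw [e, ac_add, ac_inv', hs])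

theorem E_of {a : L32} (p : a ∈ D) (q : x1 * a * x1⁻¹ ∈ D) : a ∈ E := fun v => by
  have k : ∀ u, ac x1 u 2 = u 1 := by decide +kernel
  have := q.2 (ac x1 v)
  rw [ac_mul, ac_mul, ac_inv, k, k] at this
  exact ⟨this, p.2 v⟩

theorem mem_D {a : L32} (p : ac a e0 = e0) (q : ac (σ a) e2 = e2) : a ∈ D :=
  ⟨p, fun v => by rw [← dot2 v, ← dot2 (ac a v), ← pair a e2 v, q]⟩

/-- the elements of `D` -/
def up (p : ZMod 2 × ZMod 2 × ZMod 2) : L32 := mk 1 p.1 p.2.1 0 1 p.2.2 0 0 1 (by simp)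

theorem up_D : ∀ p, ac (up p) e0 = e0 ∧ ∀ v, ac (up p) v 2 = v 2 := by decide +kernel

theorem card_D : Nat.card D = 8 := by
  have b : Function.Bijective fun p => (⟨up p, up_D p⟩ : D) := by
    refine ⟨fun p q e => (by decide +kernel : ∀ p q, up p = up q → p = q) p q (congrArg Subtype.val e), ?_⟩
    rintro ⟨a, p, q⟩
    refine ⟨(a.1 0 1, a.1 0 2, a.1 1 2), Subtype.ext (Subtype.ext ?_)⟩
    have d := a.2
    have p0 := congrFun p 0
    have p1 := congrFun p 1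
    have q0 := q e0
    have q1 := q e1
    have q2 := q e2
    simp [ac, e0, e1, e2, mulVec, dotProduct, Fin.sum_univ_three] at p0 p1 q0 q1 q2
    rw [det_fin_three, p0, p1, q0, q1, q2] at d
    simp at d
    ext i j
    fin_cases i <;> fin_cases j <;> simp [up, mk, p0, p1, q0, q1, q2, d]
  rw [← Nat.card_eq_of_bijective _ b]
  simp

theorem index_D : D.index = 21 := by
  have := D.card_mul_index
  rw [card_D, CL.Rec.card_sl32] at this
  omega

theorem pg_D : IsPGroup 2 D := IsPGroup.of_card (n := 3) card_D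

theorem rk4 (B : Subgroup L32) (h : ∀ b ∈ B, b * b = 1) : Nat.card B ≤ 4 := by
  have s : SylIn 2 D ⊤ := sylIn_of_not_dvd_relIndex pg_D le_top (by rw [relIndex_top_right, index_D]; decide)
  obtain ⟨x, -, hx⟩ := s.exists_conj_le (R := B)
    (fun g => ⟨1, Subtype.ext (by simpa [pow_two] using h g g.2)⟩) le_top
  have d := card_dvd_of_le hx
  rw [card_D, ← card_cj x B] at *
  by_contra c
  have e : x •ᶜ B = D := eq_of_le_of_card_ge hx (by
    rw [card_D]
    have := Nat.le_of_dvd (by norm_num) d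
    generalize Nat.card (x •ᶜ B : Subgroup L32) = n at *
    interval_cases n <;> omega)
  have m : up (1, 0, 1) ∈ x •ᶜ B := e ▸ up_D _
  have := h _ (mem_cj.1 m)
  have : up (1, 0, 1) * up (1, 0, 1) = 1 := by
    rw [← mul_right_inj x⁻¹, ← mul_left_inj x, mul_one, inv_mul_cancel, ← this]; group
  exact absurd this (by decide +kernel)

theorem trans : ∀ v : Vec, v ≠ 0 → ∃ a, ac a e0 = v := fun v h => by
  obtain ⟨a, -, e⟩ := (by decide +kernel : ∀ v : Vec, v ≠ 0 → ∃ a ∈ [1, g1, g3, k1, k3 * k3, g3 * g3,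
    mk 1 0 0 1 1 0 0 0 1, mk 1 0 0 0 1 0 1 0 1], ac a e0 = v) v h
  exact ⟨a, e⟩

end CL.Ord8.B7
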