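import Cfsg.Agent.FGS.Ord8.R1
import Cfsg.Agent.FGS.Ord8.Bld7a
import Cfsg.Agent.FGS.Ord6B

set_option autoImplicit false
set_option linter.unusedSectionVars false

namespace CL.Ord8

open Subgroup Cfsg CL.MSS CL.Ord6
open scoped commutatorElement

universe u

variable {G : Type*} [Group G] [Finite G]

variable {M Q : Subgroup G}

namespace B7

open R1 (cj cj')

/-- `Ω₁ Z(K)` -/
def Om (K : Subgroup G) : Subgroup G where
  carrier := {v | v ∈ K ∧ v * v = 1 ∧ ∀ q ∈ K, v * q = q * v}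
  one_mem' := ⟨one_mem _, one_mul _, fun _ _ => by simp⟩
  mul_mem' := fun {a b} ha hb => ⟨mul_mem ha.1 hb.1, by
    rw [(show Commute a b from ha.2.2 b hb.1).symm.mul_mul_mul_comm, ha.2.1, hb.2.1, mul_one],
    fun q hq => (Commute.mul_left (ha.2.2 q hq) (hb.2.2 q hq) :)⟩
  inv_mem' := fun {a} ha => by rwa [inv_eq_of_mul_eq_one_left ha.2.1]

theorem Om_nz {K : Subgroup G} : 𝐍 K ≤ 𝐍 (Om K) := fun g hg => mem_normalizer_fintype fun v hv => ⟨cj hg hv.1, by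
    rw [conj_mul, hv.2.1]; simp, fun q hq => by
    have := hv.2.2 _ (cj' hg hq)
    rw [show g * v * g⁻¹ * q = g * (v * (g⁻¹ * q * g)) * g⁻¹ by group, this]; group⟩

theorem Om_ex {K : Subgroup G} (p : IsPGroup 2 K) (n : K ≠ ⊥) : ∃ z ∈ Om K, z ≠ 1 := by
  have := (nontrivial_iff_ne_bot K).2 n
  have := p.center_nontrivial
  obtain ⟨m, hm, e⟩ := (p.to_subgroup (center K)).nontrivial_iff_card.1 this
  obtain ⟨z, hz⟩ := exists_prime_orderOf_dvd_card' (G := center K) 2 (e ▸ dvd_pow_self 2 hm.ne')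
  refine ⟨z.1.1, ⟨z.1.2, ?_, fun q hq => congrArg Subtype.val (mem_center_iff.1 z.2 ⟨q, hq⟩).symm⟩, fun e => ?_⟩
  · have := pow_orderOf_eq_one z
    rw [hz, pow_two] at this
    exact congrArg (fun x : center K => x.1.1) this
  · rw [show z = 1 from Subtype.ext (Subtype.ext e), orderOf_one] at hz
    omega

theorem lift7 (h : H8 G) (π : G →* L32) {y : G} (e : π y = f0) : y ^ 7 = 1 ∧ y ≠ 1 :=
  ⟨h.lift π (e ▸ ord7 f0_7.1 f0_7.2.1) (by norm_num), fun c => f0_7.2.1 (by rw [← e, c, map_one])⟩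

theorem lifts (h : H8 G) (π : G →* L32) (p : IsPGroup 2 π.ker) (r : Function.Surjective π) :
    ∃ y x : G, π x = x1 ∧ y ^ 7 = 1 ∧ y ≠ 1 ∧ x ^ 3 = 1 ∧ x * y * x⁻¹ = y ^ 2 := by
  obtain ⟨y, hy⟩ := r f0
  obtain ⟨a, ha⟩ := r x1
  obtain ⟨y7, y1⟩ := lift7 h π hy
  obtain ⟨u, hu, e⟩ := surj_comm (Q := π.ker) (g := y ^ 2) (fun q hq => π.normal_ker.conj_mem q hq _)
    (fun q hq c => h.fpf2 (.inr rfl) (by rw [← pow_mul, mul_comm, pow_mul, y7, one_pow]) (fun c => y1 (by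
      have : y * y ^ 7 = (y ^ 2) ^ 4 := by group
      rwa [y7, c, one_pow, mul_one] at this)) p hq c)
    (q := a * y * a⁻¹ * (y ^ 2)⁻¹) (by
      rw [MonoidHom.mem_ker]
      simp only [map_mul, map_inv, map_pow, hy, ha, f0_7.2.2]
      group)
  have k : u * a * y * (u * a)⁻¹ = y ^ 2 := by
    rw [show u * a * y * (u * a)⁻¹ = u * (a * y * a⁻¹ * (y ^ 2)⁻¹) * y ^ 2 * u⁻¹ by group, ← e]; group
  have hc : π (u * a) = x1 := by rw [map_mul, hu, ha, one_mul]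
  generalize u * a = c at k hc
  obtain ⟨c3, c4⟩ := h.lift3 π (g := c) (hc ▸ x1_3.1) (hc ▸ x1_3.2.1)
  refine ⟨y, c ^ 4, c4.trans hc, y7, y1, c3, ?_⟩
  have t : ∀ n : ℕ, c * y ^ n * c⁻¹ = y ^ (2 * n) := fun n => by rw [← conj_pow, k, pow_mul]
  rw [show c ^ 4 * y * (c ^ 4)⁻¹ = c * (c * (c * (c * y * c⁻¹) * c⁻¹) * c⁻¹) * c⁻¹ by
      simp only [pow_succ, pow_zero, one_mul, mul_inv_rev, mul_assoc], k, t, t, t,
    show y ^ (2 * (2 * (2 * 2))) = (y ^ 7) ^ 2 * y ^ 2 by group, y7, one_pow, one_mul]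

/-- the preimage of a subgroup -/
def pre (π : M →* L32) (K : Subgroup L32) : Subgroup G := (K.comap π).map M.subtype

variable {π : M →* L32}

theorem pre_le (K : Subgroup L32) : pre π K ≤ M := map_subtype_le _

theorem mem_pre {K : Subgroup L32} (m : M) : m.1 ∈ pre π K ↔ π m ∈ K :=
  mem_map_iff_mem (f := M.subtype) (K := K.comap π) M.subtype_injective

theorem pre_card (r : Function.Surjective π) (K : Subgroup L32) : ♯(pre π K) * K.index = ♯M := by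
  rw [pre, card_subtype, ← index_comap_of_surjective K r, card_mul_index]

theorem QM (l : Loc M Q π) : Q ≤ M := l.nQ ▸ le_normalizer

theorem pre_bot (l : Loc M Q π) : pre π ⊥ = Q := le_antisymm
  (fun g hg => (l.ker ⟨g, pre_le _ hg⟩).1 ((mem_pre ⟨g, pre_le _ hg⟩).1 hg))
  fun g hg => (mem_pre ⟨g, QM l hg⟩).2 ((l.ker ⟨g, QM l hg⟩).2 hg)

theorem pker (l : Loc M Q π) : IsPGroup 2 π.ker := by
  rw [show π.ker = Q.comap M.subtype from Subgroup.ext l.ker]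
  exact l.pQ.comap_subtype

theorem pre_mono {K L : Subgroup L32} (h : K ≤ L) : pre π K ≤ pre π L := map_mono (comap_mono h)

theorem syl (l : Loc M Q π) (r : Function.Surjective π) : SylIn 2 (pre π D) M := by
  refine sylIn_of_not_dvd_relIndex ((pg_D.comap_of_ker_isPGroup π (pker l)).map _) (pre_le _) ?_
  rw [relIndex, subgroupOf, pre, comap_map_eq_self_of_injective M.subtype_injective, index_comap_of_surjective D r,
    index_D]
  decide

theorem bdL : ∃ d ∈ E, ac (d * x1 * d⁻¹ * x1⁻¹) (e1 + ac x1 e1) ≠ e1 + ac x1 e1 :=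
  ⟨up (1, 0, 0), (by decide +kernel : ∀ v, ac (up (1, 0, 0)) v 1 = v 1 ∧ ac (up (1, 0, 0)) v 2 = v 2), by
    rw [inv_eq_of_mul_eq_one_right (show up (1, 0, 0) * up (1, 0, 0) = 1 by decide +kernel),
      inv_eq_of_mul_eq_one_right (show x1 * (x1 * x1) = 1 by decide +kernel)]
    decide +kernel⟩

theorem sqL (h : H8 G) (l : Loc M Q π) (r : Function.Surjective π) {V : Subgroup G} (nV : M ≤ 𝐍 V) {t : G}
    (ht : t ∈ M) (n : t ∉ Q) (c : ∀ q ∈ Q, ⁅q, t⁆ ∈ V) : Q ≤ V := by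
  let K : Subgroup M :=
    { carrier := {m | ∀ q ∈ Q, ⁅q, m.1⁆ ∈ V}
      one_mem' := fun q _ => by simp
      mul_mem' := fun {a b} ha hb q hq => by
        have := mul_mem (ha q hq) (cj (nV a.2) (hb q hq))
        rwa [show ⁅q, a.1⁆ * (a.1 * ⁅q, b.1⁆ * a.1⁻¹) = ⁅q, a.1 * b.1⁆ by simp only [commutatorElement_def]; group] at this
      inv_mem' := fun {a} ha q hq => by
        have := cj' (nV a.2) (inv_mem (ha q hq))
        rwa [show a.1⁻¹ * ⁅q, a.1⁆⁻¹ * a.1 = ⁅q, a.1⁻¹⁆ by simp only [commutatorElement_def]; group] at this }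
  have kn : K.Normal := ⟨fun a ha g q hq => by
    have := cj (nV g.2) (ha _ (cj' (l.nQ.ge g.2) hq))
    rwa [show g.1 * ⁅g.1⁻¹ * q * g.1, a.1⁆ * g.1⁻¹ = ⁅q, g.1 * a.1 * g.1⁻¹⁆ by
      simp only [commutatorElement_def]; group] at this⟩
  have := CL.Rec.simple_sl32
  rcases (kn.map π r).eq_bot_or_eq_top with e | e
  · exact (n ((l.ker ⟨t, ht⟩).1 (mem_bot.1 (e ▸ mem_map_of_mem π (show ⟨t, ht⟩ ∈ K from c))))).elim
  obtain ⟨k, hk, ek⟩ : f0 ∈ K.map π := e ▸ mem_top _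
  obtain ⟨k7, k1⟩ := lift7 (h.subgroup M) π ek
  intro q hq
  obtain ⟨u, hu, rfl⟩ := surj_comm (g := k.1) (fun q hq => cj (l.nQ.ge k.2) hq) (fun q hq c =>
    h.fpf2 (.inr rfl) (congrArg Subtype.val k7) (fun c => k1 (Subtype.ext c)) l.pQ hq c) hq
  have := hk _ (inv_mem hu)
  rwa [show ⁅u⁻¹, k.1⁆ = u⁻¹ * (k.1 * u * k.1⁻¹) by simp only [commutatorElement_def]; group] at this

theorem core (h : H8 G) (l : Loc M Q π) (r : Function.Surjective π) (ζ : Vec → G) (ne : ∃ v, ζ v ≠ 1)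
    (hQ : ∀ v, ζ v ∈ Q) (eq : ∀ (m : M) v, m.1 * ζ v * m.1⁻¹ = ζ (ac (π m) v)) (ad : ∀ v w, ζ (v + w) = ζ v * ζ w) :
    ∃ V T Q1 z x, Cf M Q V T Q1 z x := by
  have vv : ∀ v : Vec, v + v = 0 := by decide
  have z0 : ζ 0 = 1 := by simpa using ad 0 0
  have s2 : ∀ v, ζ v * ζ v = 1 := fun v => by rw [← ad, vv, z0]
  have iv : ∀ v, (ζ v)⁻¹ = ζ v := fun v => inv_eq_of_mul_eq_one_right (s2 v)
  have tr : ∀ v, v ≠ 0 → ∃ m : M, ζ v = m.1 * ζ e0 * m.1⁻¹ := fun v hv => by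
    obtain ⟨a, rfl⟩ := trans v hv
    obtain ⟨m, rfl⟩ := r a
    exact ⟨m, (eq m _).symm⟩
  have z1 : ζ e0 ≠ 1 := fun c => by
    obtain ⟨v, hv⟩ := ne
    obtain ⟨m, e⟩ := tr v fun c => hv (c ▸ z0)
    exact hv (by rw [e, c]; simp)
  have inj : Function.Injective ζ := fun v w e => by
    by_contra c
    obtain ⟨m, k⟩ := tr (v + w) fun d => c ((by decide : ∀ v w : Vec, v + w = 0 → v = w) v w d)
    rw [ad, e, s2] at k
    exact z1 (conj_eq_one_iff.1 k.symm)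
  let V : Subgroup G :=
    { carrier := Set.range ζ
      one_mem' := ⟨0, z0⟩
      mul_mem' := by rintro _ _ ⟨v, rfl⟩ ⟨w, rfl⟩; exact ⟨_, ad v w⟩
      inv_mem' := by rintro _ ⟨v, rfl⟩; exact ⟨v, (iv v).symm⟩ }
  have el : ∀ v ∈ V, v * v = 1 := by rintro _ ⟨v, rfl⟩; exact s2 v
  have MV : M ≤ 𝐍 V := fun m hm => mem_normalizer_fintype (by rintro _ ⟨v, rfl⟩; exact ⟨_, (eq ⟨m, hm⟩ v).symm⟩)
  have nV : 𝐍 V = M := l.max V (fun g => ⟨1, Subtype.ext (by simpa [pow_two] using el g g.2)⟩)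
    (fun c => z1 (mem_bot.1 (c ▸ (⟨e0, rfl⟩ : ζ e0 ∈ V)))) MV
  have cm : ∀ (m : M) v, m.1 * ζ v = ζ v * m.1 ↔ ac (π m) v = v := fun m v => by
    rw [← mul_inv_eq_iff_eq_mul, eq, inj.eq_iff]
  have co : ∀ (m : M) v, ⁅ζ v, m.1⁆ = ζ (v + ac (π m) v) := fun m v => by
    rw [ad, ← eq, commutatorElement_def, iv]; group
  have cV : 𝐂 V = Q := le_antisymm (fun g hg => (l.ker ⟨g, nV.le (centralizer_le_normalizer _ hg)⟩).1
      (ac_ext fun v => (cm _ v).1 (hg _ ⟨v, rfl⟩).symm)) fun q hq => by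
    rintro _ ⟨v, rfl⟩
    exact ((cm ⟨q, QM l hq⟩ v).2 (by rw [(l.ker _).2 hq, ac_one])).symm
  have cz : ∀ v, ∀ q ∈ pre π E, ⁅ζ v, q⁆ ∈ zpowers (ζ e0) := fun v q hq => by
    rw [co ⟨q, pre_le _ hq⟩]
    rcases mem_E.1 ((mem_pre ⟨q, pre_le _ hq⟩).1 hq) v with e | e
    · rw [e, vv, z0]; exact one_mem _
    · rw [e, ← add_assoc, vv, zero_add]; exact mem_zpowers _
  have zT : pre π D ≤ 𝐜 (ζ e0) := fun t ht =>
    mem_c.2 ((cm ⟨t, pre_le _ ht⟩ _).2 ((mem_pre ⟨t, pre_le _ ht⟩).1 ht).1)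
  obtain ⟨y, x, hx, y7, y1, x3, xy⟩ := lifts (h.subgroup M) π (pker l) r
  have xz : x.1 * ζ e0 = ζ e0 * x.1 := (cm x _).2 (hx ▸ x1_3.2.2)
  have x3' : x.1 ^ 3 = 1 := congrArg Subtype.val x3
  have x1' : x.1 ≠ 1 := fun c => x1_3.2.1 (by rw [← hx, show x = 1 from Subtype.ext c, map_one])
  refine ⟨V, pre π D, pre π E, ζ e0, x, l.pQ, l.nQ, l.max, syl l r, ?_, el, nV, cV, ⟨e0, rfl⟩, z1, ?_, zT, x3', x1', x.2,
    xz, pre_bot l ▸ pre_mono bot_le, pre_mono E_le, fun c => ?_, fun s hs => mem_normalizer_fintype fun a ha => ?_,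
    fun B p le n d hd => ?_, ?_, fun t _ c => cV.le ?_, fun b hb k => r1_seven h l.pQ (l.nQ.ge y.2)
      (congrArg Subtype.val y7) (fun c => y1 (Subtype.ext c)) (l.nQ.ge x.2) x3' x1' (congrArg Subtype.val xy) (hQ _) (s2 _)
      (fun q hq => cV.ge hq _ ⟨e0, rfl⟩) xz hb k, fun t ht n c => sqL h l r MV ht n c, fun A le e d => ?_, .inl ?_⟩
  · have a := pre_card r D
    have b := pre_card r ⊥
    rw [pre_bot l, index_bot, CL.Rec.card_sl32] at b
    rw [index_D] at a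
    omega
  · rintro _ ⟨v, rfl⟩ n
    obtain ⟨m, e⟩ := tr v fun c => n (c ▸ z0)
    exact ⟨m, m.2, e⟩
  · obtain ⟨m, e⟩ := r (up (0, 0, 1))
    have := (mem_pre m).1 (c ((mem_pre m).2 (e ▸ up_D _))) e2
    rw [e] at this
    exact absurd this (by decide +kernel)
  · refine (mem_pre (⟨s, hs.1⟩ * ⟨a, pre_le _ ha⟩ * ⟨s, hs.1⟩⁻¹)).2 ?_
    rw [map_mul, map_mul, map_inv]
    exact E_cj ((cm ⟨s, hs.1⟩ _).1 (mem_c.1 hs.2)) ((mem_pre ⟨a, pre_le _ ha⟩).1 ha)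
  · have bt : B ≤ pre π D := (syl l r).le_of_normalized p (le.trans inf_le_left) ((le_inf (pre_le _) zT).trans n)
    have dm := (le hd).1
    refine (mem_pre ⟨d, dm⟩).2 (E_of ((mem_pre ⟨d, dm⟩).1 (bt hd)) ?_)
    have := (mem_pre (x * ⟨d, dm⟩ * x⁻¹)).1 (bt (cj (n ⟨x.2, mem_c.2 xz⟩) hd))
    rwa [map_mul, map_mul, map_inv, hx] at this
  · obtain ⟨a, ha, k⟩ := bdL
    obtain ⟨d, rfl⟩ := r a
    refine ⟨ζ e1, ⟨e1, rfl⟩, d, (mem_pre d).2 ha, by rw [co]; exact cz _, fun c => k ?_⟩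
    rw [co, commutatorElement_eq_one_iff_mul_comm] at c
    have := (cm (d * x * d⁻¹ * x⁻¹) _).1 c.symm
    rwa [map_mul, map_mul, map_mul, map_inv, map_inv, hx] at this
  · rintro _ ⟨v, rfl⟩
    exact c _ ⟨v, rfl⟩ (cz v)
  · have i : Function.Injective (π.comp (inclusion le)) := (injective_iff_map_eq_one _).2 fun a k =>
      Subtype.ext (mem_bot.1 (d ▸ (⟨a.2, (l.ker _).1 k⟩ : a.1 ∈ A ⊓ Q)))
    rw [Nat.card_congr (MonoidHom.ofInjective i).toEquiv]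
    refine rk4 _ ?_
    rintro _ ⟨a, rfl⟩
    rw [← map_mul, show a * a = 1 from Subtype.ext (e a a.2), map_one]
  · exact (Nat.card_range_of_injective inj).trans (by simp)

theorem dual (l : Loc M Q π) : Loc M Q (σ.comp π) :=
  ⟨l.pQ, l.ne, l.nQ, l.cQ, fun m => (map_eq_one_iff σ σ_bij.1).trans (l.ker m), l.max⟩

end B7
/-- **`M / Q = L₃(2)`.** PLAN. `Y = Ω₁Z(Q) ≠ 1` is an `F₂L₃(2)`-module on which `N(f) = 1 + f + .. + f⁶` is `0` for all `f` of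
order `7`. Let `T` be the preimage of the upper unitriangular group `D₈`, `1 ≠ z' ∈ C_Y(T)`, `P₁ = ⟨D₈, x₁⟩` the stabilizer of
the point `e₀`, `P₂ = ⟨D₈, x₂⟩` the stabilizer of the line `⟨e₀, e₁⟩`. CERTIFICATE (permutation module on the `21` flags;
the Steinberg module is killed by `N(f) = 0`): `N(x₁) z' = 0 = N(x₂) z'` implies `z' = 0`. So there is `z ≠ 1` fixed by `P₁` or
`P₂`; the automorphism `g ↦ (g⁻¹)ᵀ` (followed by conjugation with the antidiagonal matrix) swaps the cases. For `z` fixed by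
`P₁` write `z_p` for points `p`; `∏ z_p = 1`. If the product `w_l` over a line `l` is `≠ 1`, the `w_l` are fixed by the line
stabilizers and the product of the three `w_l` through a point is `∏ z_p = 1`. So, up to the automorphism, `z_p z_q = z_{p+q}`.
`V = {1} ∪ {z_p}` has order `8`, `M ⊓ 𝐜 z` is the preimage of `P₁`, `Q1` the preimage of the transvections with centre
`e₀`, `x` a lift of `x₁` (`lift3`). `nV` by `max`; `cV`, `sq` by simplicity of `L₃(2)` (for `sq`: an element of order `7`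
centralizes `Q / V`, but every `q` is `u⁻¹ · y u y⁻¹`). `r1` is `r1_seven`: take `f̄` of order `7` with
`x̄ f̄ x̄⁻¹ = f̄²` (`x̄ = x₁` or `x₁⁻¹`); `x` acts on the coset `f Q` twisted..., or: `x` permutes the `|Q| = 2ⁿ` Sylow
`7`-subgroups of `Q⟨f⟩`, so normalizes one, `⟨y⟩`, `y ∈ f Q`. -/
theorem cf7 (h : H8 G) {π : M →* L32} (l : Loc M Q π) (r : Function.Surjective π) :
    ∃ V T Q1 z x, Cf M Q V T Q1 z x := by
  have QT : Q ≤ B7.pre π B7.D := B7.pre_bot l ▸ B7.pre_mono bot_le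
  obtain ⟨z, hz, z1⟩ := B7.Om_ex (B7.syl l r).pgroup fun c => l.ne (le_bot_iff.1 (c ▸ QT))
  have zY : z ∈ B7.Om Q := ⟨l.cQ fun q hq => (hz.2.2 q (QT hq)).symm, hz.2.1, fun q hq => hz.2.2 q (QT hq)⟩
  let _ : CommGroup (B7.Om Q) :=
    { (inferInstance : Group (B7.Om Q)) with mul_comm := fun a b => Subtype.ext (a.2.2.2 b b.2.1) }
  let g : M →* MulAut (B7.Om Q) := (B7.Om Q).normalizerMonoidHom.comp (inclusion (l.nQ.ge.trans B7.Om_nz))
  have hg : ∀ (m : M) w, (g m w).1 = m.1 * w.1 * m.1⁻¹ := fun _ _ => rfl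
  obtain ⟨ρ, hρ⟩ : ∃ ρ : L32 →* MulAut (B7.Om Q), ∀ m, ρ (π m) = g m :=
    ⟨π.liftOfSurjective r ⟨g, fun m hm => MulEquiv.ext fun w => Subtype.ext (by
      rw [hg, ← w.2.2.2 _ ((l.ker m).1 hm)]; simp)⟩, π.liftOfRightInverse_comp_apply _ _ _⟩
  have := B7.b2 (ρ := ρ) (fun w => Subtype.ext w.2.2.1) (fun f f7 f1 w e => by
    obtain ⟨m, rfl⟩ := r f
    have k := congrArg Subtype.val e
    rw [hρ, hg, mul_inv_eq_iff_eq_mul] at k
    exact Subtype.ext (h.fpf2 (.inr rfl) (congrArg Subtype.val ((h.subgroup M).lift π (ord7 f7 f1) (by norm_num)))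
      (fun c => f1 (by rw [show m = 1 from Subtype.ext c, map_one])) l.pQ w.2.1 k)) (z := ⟨z, zY⟩)
    (fun c => z1 (congrArg Subtype.val c)) fun a p q => by
      obtain ⟨m, rfl⟩ := r a
      refine Subtype.ext ?_
      rw [hρ, hg, mul_inv_eq_iff_eq_mul]
      exact (hz.2.2 _ ((B7.mem_pre m).2 (B7.mem_D p q))).symm
  rcases this with ⟨U, ⟨v, n⟩, e, a⟩ | ⟨U, ⟨v, n⟩, e, a⟩
  · exact B7.core h l r (fun v => (U v).1) ⟨v, fun c => n (Subtype.ext c)⟩ (fun v => (U v).2.1)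
      (fun m v => by rw [← hg, ← hρ, e]) fun v w => congrArg Subtype.val (a v w)
  · exact B7.core h (B7.dual l) (B7.σ_bij.2.comp r) (fun v => (U v).1) ⟨v, fun c => n (Subtype.ext c)⟩
      (fun v => (U v).2.1) (fun m v => by rw [← hg, ← hρ, ← e, MonoidHom.comp_apply, MonoidHom.comp_apply, B7.σσ])
      fun v w => congrArg Subtype.val (a v w)

end CL.Ord8
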